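import Mathlib
import Cfsg.Agent.H250.EqD.DdN
import Cfsg.Agent.H221.CS.Data

/-!
# S3677, rows `PSp(2n, q)` and `PΩ(2n + 1, q)`: the number of the powers of `y` conjugate to `y` (helper166)
-/

set_option autoImplicit false

namespace Cfsg.Agent.H166.CS

open Subgroup Cfsg.Agent.H902 Cfsg.Agent.H221.CS

universe u

section fusion

variable {G : Type u} [Group G] [Finite G] {r m : ℕ}

omit [Finite G] in
theorem cent_le (y : G) : centralizer ({y} : Set G) ≤ normalizer (zpowers y : Set G) := by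
  intro g hg
  rw [mem_normalizer_iff]
  have hc : g * y = y * g := (mem_centralizer_iff.1 hg y rfl).symm
  intro h
  have hcz : ∀ z ∈ zpowers y, g * z * g⁻¹ = z := by
    rintro z ⟨i, rfl⟩
    have h2 : Commute g (y ^ i) := Commute.zpow_right hc i
    rw [h2.eq, mul_inv_cancel_right]
  constructor
  · intro hh
    rw [hcz h hh]
    exact hh
  · intro hh
    have h3 := hcz _ hh
    have h4 : g * h * g⁻¹ = h := by
      have h5 : g * (g * h * g⁻¹) * g⁻¹ = g * h * g⁻¹ := h3
      have h6 : g * (g * h * g⁻¹) = g * h := by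
        have := congrArg (· * g) h5
        simpa using this
      exact mul_left_cancel h6
    rw [h4] at hh
    exact hh

/-- the powers of `y` conjugate to `y` are the conjugates under the normalizer -/
theorem card_fus (y : G) : Nat.card {z : G // z ∈ zpowers y ∧ IsConj y z} =
    (centralizer ({y} : Set G)).relIndex (normalizer (zpowers y : Set G)) := by
  classical
  set N := normalizer (zpowers y : Set G) with hN
  let φ : N ⧸ (centralizer ({y} : Set G)).subgroupOf N → {z : G // z ∈ zpowers y ∧ IsConj y z} :=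
    fun q => Quotient.liftOn' q (fun g => ⟨g * y * (g : G)⁻¹, by
      have h1 := (mem_normalizer_iff.1 g.2 y).1 (mem_zpowers y)
      exact ⟨h1, isConj_iff.2 ⟨g, rfl⟩⟩⟩) (by
        intro a b hab
        rw [QuotientGroup.leftRel_apply, mem_subgroupOf] at hab
        have h2 := mem_centralizer_iff.1 hab y rfl
        rw [Subtype.mk.injEq]
        simp only [coe_mul, coe_inv] at h2
        have h3 : y = ((a : G)⁻¹ * b) * y * ((a : G)⁻¹ * b)⁻¹ := by
          rw [← h2, mul_inv_cancel_right]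
        calc (a : G) * y * (a : G)⁻¹ = a * (((a : G)⁻¹ * b) * y * ((a : G)⁻¹ * b)⁻¹) * (a : G)⁻¹ := by rw [← h3]
          _ = _ := by group)
  have hφ : Function.Bijective φ := by
    constructor
    · intro a b
      induction a using QuotientGroup.induction_on with | H a => ?_
      induction b using QuotientGroup.induction_on with | H b => ?_
      intro hab
      have h1 : (a : G) * y * (a : G)⁻¹ = b * y * (b : G)⁻¹ := congrArg Subtype.val hab
      rw [QuotientGroup.eq, mem_subgroupOf, mem_centralizer_iff]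
      intro y' hy'
      obtain rfl : y' = y := hy'
      simp only [coe_mul, coe_inv]
      calc y' * ((a : G)⁻¹ * b) = (a : G)⁻¹ * (a * y' * (a : G)⁻¹) * b := by group
        _ = (a : G)⁻¹ * (b * y' * (b : G)⁻¹) * b := by rw [h1]
        _ = _ := by group
    · rintro ⟨z, hz, hc⟩
      obtain ⟨g, hg⟩ := isConj_iff.1 hc
      have hgN : g ∈ N := by
        have h1 : zpowers z ≤ zpowers y := zpowers_le.2 hz
        have h2 : Nat.card (zpowers z) = Nat.card (zpowers y) := by
          rw [Nat.card_zpowers, Nat.card_zpowers, ← hg]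
          exact (MulAut.conj g).orderOf_eq y
        have h3 : zpowers z = zpowers y := Subgroup.eq_of_le_of_card_ge h1 h2.ge
        have h4 : (zpowers y).map (MulAut.conj g).toMonoidHom = zpowers y := by
          rw [MonoidHom.map_zpowers]
          show zpowers (g * y * g⁻¹) = zpowers y
          rw [hg, h3]
        rw [hN, mem_normalizer_iff]
        intro h
        constructor
        · intro hh
          rw [← h4]
          exact ⟨h, hh, rfl⟩
        · intro hh
          rw [← h4] at hh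
          obtain ⟨h', hh', e⟩ := hh
          have e2 : g * h' * g⁻¹ = g * h * g⁻¹ := e
          have e3 : h' = h := mul_left_cancel (mul_right_cancel e2)
          rw [← e3]
          exact hh'
      exact ⟨QuotientGroup.mk (⟨g, hgN⟩ : N), Subtype.ext hg⟩
  rw [← Nat.card_congr (Equiv.ofBijective φ hφ)]
  rfl

theorem fusion (hr : r.Prime) (h1 : (Nat.card G).factorization r = 1) {y : G} (hy : orderOf y = r)
    (hm : Nat.card (centralizer ({y} : Set G)) = m) :
    Nat.card {z : G // z ∈ zpowers y ∧ IsConj y z} < r ∧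
      Nat.card {z : G // z ∈ zpowers y ∧ IsConj y z} ≡ Nat.card G / m [MOD r] := by
  classical
  have := Fact.mk hr
  constructor
  · have hlt : ({z : G | z ∈ zpowers y ∧ IsConj y z}).ncard < (zpowers y : Set G).ncard := by
      apply Set.ncard_lt_ncard _ (Set.toFinite _)
      rw [Set.ssubset_iff_of_subset (fun z hz => hz.1)]
      refine ⟨1, one_mem _, ?_⟩
      rintro ⟨-, h⟩
      have h2 := isConj_one_right.1 h.symm
      rw [h2, orderOf_one] at hy
      exact hr.ne_one hy.symm
    have h3 : (zpowers y : Set G).ncard = r := by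
      rw [← Nat.card_coe_set_eq]
      exact (Nat.card_zpowers y).trans hy
    rw [h3] at hlt
    exact hlt
  · rw [card_fus]
    have hc : Nat.card (zpowers y) = r ^ (Nat.card G).factorization r := by
      rw [h1, pow_one, Nat.card_zpowers, hy]
    have h2 := (Sylow.ofCard (zpowers y) hc).card_eq_index_normalizer
    have h3 := card_sylow_modEq_one r G
    rw [h2] at h3
    have h4 : ((Sylow.ofCard (zpowers y) hc : Sylow r G) : Set G) = (zpowers y : Set G) := rfl
    rw [h4] at h3
    have h5 := relIndex_mul_index (cent_le y)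
    have h6 : Nat.card G / m = (centralizer ({y} : Set G)).index := by
      rw [← hm, ← card_mul_index (centralizer ({y} : Set G))]
      exact Nat.mul_div_cancel_left _ Nat.card_pos
    rw [h6, ← h5]
    have h7 := h3.mul_left ((centralizer ({y} : Set G)).relIndex (normalizer (zpowers y : Set G)))
    rw [mul_one] at h7
    exact h7.symm

/-- coprime conjugacy -/
theorem conj_lem (hr : r.Prime) (K : Subgroup G) [K.Normal] (hrK : ¬ r ∣ Nat.card K) {y w : G} (hy : orderOf y = r)
    (hw : orderOf w = r) (hwy : (w : G ⧸ K) ∈ zpowers (y : G ⧸ K)) : ∃ k ∈ K, k * w * k⁻¹ ∈ zpowers y := by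
  classical
  have := Fact.mk hr
  set L := zpowers y ⊔ K with hL
  have hKL : K ≤ L := le_sup_right
  have hyL : y ∈ L := (le_sup_left : zpowers y ≤ L) (mem_zpowers y)
  have hwL : w ∈ L := by
    obtain ⟨i, hi⟩ := hwy
    have h1 : ((y ^ i : G) : G ⧸ K) = w := by
      rw [← hi]
      rfl
    rw [QuotientGroup.eq] at h1
    have h2 : w = y ^ i * ((y ^ i)⁻¹ * w) := by group
    rw [h2]
    exact mul_mem (zpow_mem hyL i) (hKL h1)
  have hcard : (Nat.card L).factorization r = 1 := by
    have h1 : Nat.card K * K.relIndex L = Nat.card L := by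
      have h0 := card_mul_index (K.subgroupOf L)
      rw [Nat.card_congr (subgroupOfEquivOfLe hKL).toEquiv] at h0
      exact h0
    have h2 : K.relIndex L = K.relIndex (zpowers y) := relIndex_sup_right _ _
    have h3 : K.relIndex (zpowers y) ∣ r := by
      have h4 := (K.subgroupOf (zpowers y)).index_dvd_card
      rwa [Nat.card_zpowers, hy] at h4
    have h5 : r ∣ Nat.card L := by
      have h6 := Subgroup.card_dvd_of_le (zpowers_le.2 hyL)
      rwa [Nat.card_zpowers, hy] at h6
    have h7 : Nat.card L ∣ Nat.card K * r := by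
      rw [← h1, h2]
      exact Nat.mul_dvd_mul_left _ h3
    have h8 : ¬ r ^ 2 ∣ Nat.card L := by
      intro h9
      have h10 : r * r ∣ Nat.card K * r := by
        rw [← sq]
        exact h9.trans h7
      exact hrK (Nat.dvd_of_mul_dvd_mul_right hr.pos h10)
    have h11 : 1 ≤ (Nat.card L).factorization r := (hr.dvd_iff_one_le_factorization Nat.card_pos.ne').1 h5
    have h12 : ¬ 2 ≤ (Nat.card L).factorization r := fun h => h8 ((hr.pow_dvd_iff_le_factorization Nat.card_pos.ne').2 h)
    omega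
  let y' : L := ⟨y, hyL⟩
  let w' : L := ⟨w, hwL⟩
  have hy' : Nat.card (zpowers y') = r ^ (Nat.card L).factorization r := by
    rw [hcard, pow_one, Nat.card_zpowers, ← hy]
    exact (orderOf_coe y').symm
  have hw' : Nat.card (zpowers w') = r ^ (Nat.card L).factorization r := by
    rw [hcard, pow_one, Nat.card_zpowers, ← hw]
    exact (orderOf_coe w').symm
  obtain ⟨l, hl⟩ := MulAction.exists_smul_eq L (Sylow.ofCard (zpowers w') hw') (Sylow.ofCard (zpowers y') hy')
  have hl2 : l * w' * l⁻¹ ∈ zpowers y' := by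
    have h1 : l * w' * l⁻¹ ∈ (l • Sylow.ofCard (zpowers w') hw' : Sylow r L) := by
      rw [Sylow.smul_def]
      exact ⟨w', mem_zpowers w', rfl⟩
    rw [hl] at h1
    exact h1
  obtain ⟨i, hi⟩ := hl2
  have hi2 : y ^ i = (l : G) * w * (l : G)⁻¹ := congrArg Subtype.val hi
  obtain ⟨a, ha, k, hk, hak⟩ := mem_sup_of_normal_right.1 (l.2 : (l : G) ∈ zpowers y ⊔ K)
  refine ⟨k, hk, ?_⟩
  have h9 : k * w * k⁻¹ = a⁻¹ * y ^ i * a := by
    rw [hi2, ← hak]
    group
  rw [h9]
  exact mul_mem (mul_mem (inv_mem ha) (zpow_mem (mem_zpowers y) i)) ha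

/-- lifting of fusion -/
theorem fusion_quot (hr : r.Prime) (K : Subgroup G) [K.Normal] (hrK : ¬ r ∣ Nat.card K) {x : G ⧸ K} (hx : orderOf x = r) :
    ∃ y : G, orderOf y = r ∧ (y : G ⧸ K) = x ∧
      Nat.card (centralizer ({x} : Set (G ⧸ K))) ∣ Nat.card (centralizer ({y} : Set G)) ∧
      Nat.card {z : G ⧸ K // z ∈ zpowers x ∧ IsConj x z} ≤ Nat.card {z : G // z ∈ zpowers y ∧ IsConj y z} := by
  classical
  have := Fact.mk hr
  obtain ⟨g, rfl⟩ := QuotientGroup.mk_surjective x
  obtain ⟨u, hu⟩ : ∃ u : ℕ, Nat.card K * u ≡ 1 [MOD r] := by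
    obtain ⟨u, hu⟩ := Nat.exists_mul_mod_eq_one_of_coprime ((hr.coprime_iff_not_dvd.2 hrK).symm) hr.one_lt
    exact ⟨u, hu.2.trans (Nat.mod_eq_of_lt hr.one_lt).symm⟩
  have hgr : g ^ r ∈ K := by
    rw [← QuotientGroup.eq_one_iff, QuotientGroup.mk_pow, ← hx, pow_orderOf_eq_one]
  have hyx : ((g ^ (Nat.card K * u) : G) : G ⧸ K) = g := by
    rw [QuotientGroup.mk_pow]
    have h1 : (g : G ⧸ K) ^ (Nat.card K * u) = (g : G ⧸ K) ^ 1 := by
      rw [pow_eq_pow_iff_modEq, hx]
      exact hu
    rw [h1, pow_one]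
  set y := g ^ (Nat.card K * u) with hydef
  have hyr : y ^ r = 1 := by
    have h1 : (g ^ r) ^ Nat.card K = 1 := by
      have h2 : (⟨g ^ r, hgr⟩ : K) ^ Nat.card K = 1 := pow_card_eq_one'
      exact congrArg Subtype.val h2
    rw [hydef, ← pow_mul, mul_comm (Nat.card K * u) r, ← mul_assoc, pow_mul, pow_mul, h1, one_pow]
  have hy1 : y ≠ 1 := by
    intro h
    rw [h] at hyx
    have h2 : (g : G ⧸ K) = 1 := hyx.symm
    rw [h2, orderOf_one] at hx
    exact hr.ne_one hx.symm
  have hy : orderOf y = r := orderOf_eq_prime hyr hy1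
  -- powers of `y` are determined by their images
  have hinj : ∀ a ∈ zpowers y, ∀ b ∈ zpowers y, (a : G ⧸ K) = b → a = b := by
    rintro _ ⟨i, rfl⟩ _ ⟨j, rfl⟩ h
    have h1 : (g : G ⧸ K) ^ i = (g : G ⧸ K) ^ j := by
      rw [← hyx]
      exact h
    show y ^ i = y ^ j
    rw [zpow_eq_zpow_iff_modEq] at h1 ⊢
    rwa [hy, ← hx]
  -- the lift
  have hlift : ∀ h : G, (h : G ⧸ K) * g * (h : G ⧸ K)⁻¹ ∈ zpowers (g : G ⧸ K) →
      ∃ k ∈ K, (k * h) * y * (k * h)⁻¹ ∈ zpowers y ∧
        (((k * h) * y * (k * h)⁻¹ : G) : G ⧸ K) = (h : G ⧸ K) * g * (h : G ⧸ K)⁻¹ := by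
    intro h hh
    have h0 : ((h * y * h⁻¹ : G) : G ⧸ K) = (h : G ⧸ K) * g * (h : G ⧸ K)⁻¹ := by
      rw [QuotientGroup.mk_mul, QuotientGroup.mk_mul, QuotientGroup.mk_inv, hyx]
    obtain ⟨k, hk, hkz⟩ := conj_lem (w := h * y * h⁻¹) hr K hrK hy (((MulAut.conj h).orderOf_eq y).trans hy)
      (by rw [h0, hyx]; exact hh)
    have e : (k * h) * y * (k * h)⁻¹ = k * (h * y * h⁻¹) * k⁻¹ := by group
    refine ⟨k, hk, by rw [e]; exact hkz, ?_⟩
    rw [e, QuotientGroup.mk_mul, QuotientGroup.mk_mul, QuotientGroup.mk_inv, h0, (QuotientGroup.eq_one_iff k).2 hk]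
    simp
  refine ⟨y, hy, hyx, ?_, ?_⟩
  · have hmap : (centralizer ({y} : Set G)).map (QuotientGroup.mk' K) = centralizer ({(g : G ⧸ K)} : Set (G ⧸ K)) := by
      ext c
      constructor
      · rintro ⟨c, hc, rfl⟩
        rw [mem_centralizer_iff]
        rintro _ rfl
        have h1 := mem_centralizer_iff.1 hc y rfl
        have h2 := congrArg (fun z : G => (z : G ⧸ K)) h1
        simp only [QuotientGroup.mk_mul, hyx] at h2
        exact h2
      · intro hc
        obtain ⟨c, rfl⟩ := QuotientGroup.mk_surjective c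
        have h1 := mem_centralizer_iff.1 hc (g : G ⧸ K) rfl
        have h2 : (c : G ⧸ K) * g * (c : G ⧸ K)⁻¹ = g := by rw [← h1, mul_inv_cancel_right]
        obtain ⟨k, hk, h3, h4⟩ := hlift c (by rw [h2]; exact mem_zpowers _)
        have h5 : (k * c) * y * (k * c)⁻¹ = y := hinj _ h3 _ (mem_zpowers y) (by rw [h4, h2, hyx])
        refine ⟨k * c, ?_, ?_⟩
        · rw [SetLike.mem_coe, mem_centralizer_iff]
          rintro _ rfl
          exact (mul_inv_eq_iff_eq_mul.1 h5).symm
        · rw [QuotientGroup.mk'_apply, QuotientGroup.mk_mul, (QuotientGroup.eq_one_iff k).2 hk, one_mul]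
    rw [← hmap]
    exact card_map_dvd _ _
  · have hex : ∀ z : {z : G ⧸ K // z ∈ zpowers (g : G ⧸ K) ∧ IsConj (g : G ⧸ K) z},
        ∃ t : {z : G // z ∈ zpowers y ∧ IsConj y z}, ((t : G) : G ⧸ K) = z := by
      rintro ⟨z, hz, hc⟩
      obtain ⟨h, rfl⟩ := isConj_iff.1 hc
      obtain ⟨h, rfl⟩ := QuotientGroup.mk_surjective h
      obtain ⟨k, hk, h3, h4⟩ := hlift h hz
      exact ⟨⟨_, h3, isConj_iff.2 ⟨_, rfl⟩⟩, h4⟩
    choose t ht using hex
    refine Nat.card_le_card_of_injective t fun a b hab => ?_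
    rw [Subtype.ext_iff, ← ht a, ← ht b, hab]

/-- the product of the nontrivial powers minus one -/
theorem prod_ord {R : Type*} [CommRing R] [IsDomain R] {n : ℕ} (hn : 1 ≤ n) {Q : R} (h : orderOf Q = n) :
    ∏ i ∈ Finset.range (n - 1), (Q ^ (i + 1) - 1) = (-1) ^ (n - 1) * (n : R) := by
  obtain ⟨k, rfl⟩ := Nat.exists_eq_add_of_le' hn
  have h1 : IsPrimitiveRoot Q (k + 1) := h ▸ IsPrimitiveRoot.orderOf Q
  have h2 := h1.prod_one_sub_pow_eq_order
  rw [Nat.add_sub_cancel]
  have h3 : ∀ i ∈ Finset.range k, Q ^ (i + 1) - 1 = -1 * (1 - Q ^ (i + 1)) := fun i _ => by ring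
  rw [Finset.prod_congr rfl h3, Finset.prod_mul_distrib, h2, Finset.prod_const, Finset.card_range]
  push_cast
  ring

/-- the value -/
theorem fusion_val {n p f M r : ℕ} (hn : 3 ≤ n) (hY : Art.Real (.C n) p f M) (hr : r.Prime)
    (ho : orderOf ((p ^ f : ℕ) : ZMod r) = cl n (p ^ f)) : M / mm n (p ^ f) ≡ 2 * n [MOD r] := by
  have := Fact.mk hr
  have hq2 : 2 ≤ p ^ f := by
    calc 2 ≤ p := hY.hp.two_le
      _ = p ^ 1 := (pow_one p).symm
      _ ≤ p ^ f := Nat.pow_le_pow_right hY.hp.pos hY.hf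
  have heq := hY.eq
  generalize p ^ f = q at *
  simp only [Art.dd, Art.NN, Art.num] at heq
  set d := Nat.gcd 2 (q - 1) with hd
  have hd2 : d ∣ 2 := Nat.gcd_dvd_left _ _
  have hdq : d ∣ q - 1 := Nat.gcd_dvd_right _ _
  have hd0 : 0 < d := Nat.pos_of_dvd_of_pos hd2 two_pos
  have hqn : q < q ^ n := by
    calc q = q ^ 1 := (pow_one q).symm
      _ < q ^ n := Nat.pow_lt_pow_right hq2 (by omega)
  have hdm : d ∣ q ^ n - 1 := hdq.trans (by simpa using Nat.sub_dvd_pow_sub_pow q 1 n)
  have hdp : d ∣ q ^ n + 1 := by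
    have h1 : q ^ n + 1 = (q ^ n - 1) + 2 := by omega
    rw [h1]
    exact dvd_add hdm hd2
  obtain ⟨k, rfl⟩ : ∃ k, n = k + 1 := ⟨n - 1, by omega⟩
  rw [Finset.prod_range_succ] at heq
  have hfac : q ^ (2 * (k + 1)) - 1 = (q ^ (k + 1) + 1) * (q ^ (k + 1) - 1) := by
    rw [mul_comm 2, pow_mul]
    simpa using Nat.sq_sub_sq (q ^ (k + 1)) 1
  rw [hfac] at heq
  set A := ∏ i ∈ Finset.range k, (q ^ (2 * (i + 1)) - 1) with hA
  have hcast : ∀ i, ((q ^ i - 1 : ℕ) : ZMod r) = (q : ZMod r) ^ i - 1 := by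
    intro i
    rw [Nat.cast_sub (Nat.one_le_pow _ _ (by omega))]
    push_cast
    rfl
  have hAc : orderOf ((q : ZMod r) ^ 2) = k + 1 → (A : ZMod r) = (-1) ^ k * ((k + 1 : ℕ) : ZMod r) := by
    intro h
    have h1 := prod_ord (by omega) h
    rw [Nat.add_sub_cancel] at h1
    rw [hA, Nat.cast_prod, ← h1]
    apply Finset.prod_congr rfl
    intro i _
    rw [hcast, pow_mul]
  rw [← ZMod.natCast_eq_natCast_iff]
  by_cases hc : Even (k + 1) ∨ q % 4 = 1
  · have ho' : orderOf (q : ZMod r) = 2 * (k + 1) := by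
      rw [ho, cl, if_pos hc]
    have hM : M = mm (k + 1) q * (q ^ (k + 1) ^ 2 * (A * (q ^ (k + 1) - 1))) := by
      apply Nat.eq_of_mul_eq_mul_left hd0
      rw [heq, mm, if_pos hc, ← hd]
      obtain ⟨e, he⟩ := hdp
      rw [he, Nat.mul_div_cancel_left _ hd0]
      ring
    have hmp : 0 < mm (k + 1) q := by
      rw [mm, if_pos hc]
      exact Nat.div_pos (Nat.le_of_dvd (by omega) hdp) hd0
    rw [hM, Nat.mul_div_cancel_left _ hmp]
    have h2 : orderOf ((q : ZMod r) ^ 2) = k + 1 := by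
      rw [orderOf_pow_of_dvd two_ne_zero (by rw [ho']; exact Nat.dvd_mul_right _ _), ho']
      omega
    have h3 : (q : ZMod r) ^ (k + 1) = -1 := by
      have h4 : (q : ZMod r) ^ (k + 1) * (q : ZMod r) ^ (k + 1) = 1 := by
        rw [← pow_add, ← two_mul, ← ho', pow_orderOf_eq_one]
      rcases mul_self_eq_one_iff.1 h4 with h5 | h5
      · exfalso
        have h6 := orderOf_dvd_of_pow_eq_one h5
        rw [ho'] at h6
        have := Nat.le_of_dvd (by omega) h6
        omega
      · exact h5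
    have h4 : ((-1 : ZMod r) ^ k) * (-1) ^ k = 1 := by
      rw [← mul_pow]
      simp
    rw [Nat.cast_mul, Nat.cast_mul, Nat.cast_pow, hcast, hAc h2, sq (k + 1), pow_mul, h3]
    push_cast
    linear_combination (2 * (k + 1) : ZMod r) * h4
  · have ho' : orderOf (q : ZMod r) = k + 1 := by
      rw [ho, cl, if_neg hc]
    have hkev : Even k := by
      rw [not_or, Nat.even_add_one, not_not] at hc
      exact hc.1
    have hM : M = mm (k + 1) q * (q ^ (k + 1) ^ 2 * (A * (q ^ (k + 1) + 1))) := by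
      apply Nat.eq_of_mul_eq_mul_left hd0
      rw [heq, mm, if_neg hc, ← hd]
      obtain ⟨e, he⟩ := hdm
      rw [he, Nat.mul_div_cancel_left _ hd0]
      ring
    have hmp : 0 < mm (k + 1) q := by
      rw [mm, if_neg hc]
      exact Nat.div_pos (Nat.le_of_dvd (by omega) hdm) hd0
    rw [hM, Nat.mul_div_cancel_left _ hmp]
    have h2 : orderOf ((q : ZMod r) ^ 2) = k + 1 := by
      rw [Nat.Coprime.orderOf_pow _, ho']
      rw [ho']
      exact (hkev.add_one).coprime_two_right
    have h3 : (q : ZMod r) ^ (k + 1) = 1 := by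
      rw [← ho', pow_orderOf_eq_one]
    have h4 : (-1 : ZMod r) ^ k = 1 := hkev.neg_one_pow
    rw [Nat.cast_mul, Nat.cast_mul, Nat.cast_pow, hAc h2, sq (k + 1), pow_mul, h4]
    push_cast
    rw [h3, one_pow]
    ring

end fusion

end Cfsg.Agent.H166.CS
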